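import Cfsg.Agent.H601.C3.DecDefs
import Cfsg.Agent.H375.C3.Comp

/-!
# S1920, PSU: the component of `Eh` in a decomposition `Dec` (helper375)

* `T3F` : a symmetric idempotent `F` commuting with `Nh` and `Eh`: `Eh` is trivial on `F V` or on `(1 - F) V`;
* `exists_dec_comp` : the component of `Eh`.
-/

set_option autoImplicit false

open Subgroup Module
open scoped commutatorElement

namespace Cfsg.Agent.H375.C3

open Cfsg.Agent.H415.C3
open Cfsg.Agent.H601.C3 (Star hc Dec)

universe u v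

variable {G : Type*} [Group G] {K : Type u} [Field K] {V : Type v} [AddCommGroup V] [Module K V]
variable {Gh : Subgroup (V ≃ₗ[K] V)} {π : ↥Gh →* G} {N0 A E : Subgroup G} {z s x r : G}
  {ψ : ↥A →* Equiv.Perm (Fin 6)} {Nh Eh : Subgroup (V ≃ₗ[K] V)} {zh sh xh rh : V ≃ₗ[K] V}
variable {σ : K ≃+* K} {ad : Module.End K V → Module.End K V}

/-- the linear map of `g` -/
abbrev cl (g : V ≃ₗ[K] V) : Module.End K V := (g : V →ₗ[K] V)

theorem cl_mul (g h : V ≃ₗ[K] V) : cl (g * h) = cl g * cl h := rfl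

theorem cl_one : cl (1 : V ≃ₗ[K] V) = 1 := rfl

theorem cl_mul_inv (g : V ≃ₗ[K] V) : cl g * cl g⁻¹ = 1 := LinearMap.ext fun v => g.apply_symm_apply v

theorem cl_inv_mul (g : V ≃ₗ[K] V) : cl g⁻¹ * cl g = 1 := LinearMap.ext fun v => g.symm_apply_apply v

theorem Star.zero (hS : Star σ ad) : ad 0 = 0 := by
  have h := hS.add 0 0
  rw [add_zero] at h
  exact left_eq_add.1 h

theorem Star.one (hS : Star σ ad) : ad 1 = 1 := by
  have h1 := hS.mul (ad 1) 1
  rw [mul_one, hS.inv] at h1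
  have h2 : ad 1 * 1 = 1 := by
    conv_lhs => rw [mul_one]
    have h3 := hS.mul 1 (ad 1)
    rw [one_mul, hS.inv] at h3
    -- `1 = 1 * ad 1`
    rw [one_mul] at h3
    exact h3.symm
  rw [mul_one] at h2
  exact h2

theorem Star.sub (hS : Star σ ad) (X Y : Module.End K V) : ad (X - Y) = ad X - ad Y := by
  have h := hS.add (X - Y) Y
  rw [sub_add_cancel] at h
  rw [h, add_sub_cancel_right]

/-- in a finite unitary group `ad g = g⁻¹` -/
theorem ad_eq (g : V ≃ₗ[K] V) (h : cl g * ad (cl g) = 1) : ad (cl g) = cl g⁻¹ := by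
  calc ad (cl g) = cl g⁻¹ * cl g * ad (cl g) := by rw [cl_inv_mul, one_mul]
    _ = cl g⁻¹ := by rw [mul_assoc, h, mul_one]

/-- **T3 for a symmetric idempotent.** -/
theorem T3F (Kt : Kit N0 A E z s x r ψ) (hL : Lin Gh π) (L : LKit Gh π N0 A E z s x r Nh Eh zh sh xh rh)
    (hS : Star σ ad) (hGh : ∀ g : V ≃ₗ[K] V, g ∈ Gh ↔ (cl g * ad (cl g) = 1 ∧ LinearMap.det (cl g) = 1))
    {F : Module.End K V} (hF : F * F = F) (hFa : ad F = F) (hFN : ∀ g ∈ Nh, F * cl g = cl g * F)
    (hFE : ∀ e ∈ Eh, F * cl e = cl e * F) :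
    (∀ e ∈ Eh, (cl e - 1) * F = 0) ∨ (∀ e ∈ Eh, (cl e - 1) * F = cl e - 1) := by
  classical
  -- trivial cases
  by_cases hF0 : F = 0
  · left
    intro e _
    rw [hF0, mul_zero]
  by_cases hF1 : F = 1
  · right
    intro e _
    rw [hF1, mul_one]
  have hmk : ∀ P : Module.End K V, P * P = P → (∀ e ∈ Eh, P * cl e = cl e * P) →
      ∀ e f : ↥Eh, 1 + (cl ((e * f : ↥Eh) : V ≃ₗ[K] V) - 1) * P = (1 + (cl (e : V ≃ₗ[K] V) - 1) * P) * (1 + (cl (f : V ≃ₗ[K] V) - 1) * P) := by
    intro P hP hPE e f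
    have h1 : cl ((e * f : ↥Eh) : V ≃ₗ[K] V) = cl (e : V ≃ₗ[K] V) * cl (f : V ≃ₗ[K] V) := rfl
    rw [h1]
    have h2 := hPE f f.2
    set a := cl (e : V ≃ₗ[K] V)
    set b := cl (f : V ≃ₗ[K] V)
    have h3 : (a - 1) * P * ((b - 1) * P) = (a - 1) * (b - 1) * P := by
      calc (a - 1) * P * ((b - 1) * P) = (a - 1) * (P * b - P) * P := by noncomm_ring
        _ = (a - 1) * (b * P - P) * P := by rw [h2]
        _ = (a - 1) * (b - 1) * (P * P) := by noncomm_ring
        _ = _ := by rw [hP]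
    calc 1 + (a * b - 1) * P = 1 + (a - 1) * P + (b - 1) * P + (a - 1) * (b - 1) * P := by noncomm_ring
      _ = 1 + (a - 1) * P + (b - 1) * P + (a - 1) * P * ((b - 1) * P) := by rw [h3]
      _ = _ := by noncomm_ring
  let Q : Module.End K V := 1 - F
  have hQ : Q * Q = Q := by
    change (1 - F) * (1 - F) = 1 - F
    calc (1 - F) * (1 - F) = 1 - F - F + F * F := by noncomm_ring
      _ = 1 - F := by rw [hF]; noncomm_ring
  have hQa : ad Q = Q := by
    change ad (1 - F) = 1 - F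
    rw [Star.sub hS, Star.one hS, hFa]
  have hQN : ∀ g ∈ Nh, Q * cl g = cl g * Q := by
    intro g hg
    change (1 - F) * cl g = cl g * (1 - F)
    rw [sub_mul, mul_sub, one_mul, mul_one, hFN g hg]
  have hQE : ∀ e ∈ Eh, Q * cl e = cl e * Q := by
    intro g hg
    change (1 - F) * cl g = cl g * (1 - F)
    rw [sub_mul, mul_sub, one_mul, mul_one, hFE g hg]
  have hcomN : ∀ e ∈ Eh, ∀ g ∈ Nh, cl e * cl g = cl g * cl e := fun e he g hg => by
    rw [← cl_mul, ← cl_mul, L.Eh_comm e he g hg]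
  -- the homomorphism of an idempotent
  let cP : ∀ P : Module.End K V, P * P = P → (∀ e ∈ Eh, P * cl e = cl e * P) → (↥Eh →* Module.End K V) :=
    fun P hP hPE =>
      { toFun := fun e => 1 + (cl (e : V ≃ₗ[K] V) - 1) * P
        map_one' := by
          change 1 + (1 - 1) * P = 1
          rw [sub_self, zero_mul, add_zero]
        map_mul' := hmk P hP hPE }
  let θ : (Module.End K V)ˣ →* (V ≃ₗ[K] V) := (LinearMap.GeneralLinearGroup.generalLinearEquiv K V).toMonoidHom
  have hθ : ∀ w : (Module.End K V)ˣ, cl (θ w) = (w : Module.End K V) := fun w => LinearMap.ext fun v => rfl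
  have key : ∀ (P : Module.End K V) (hP : P * P = P) (hPa : ad P = P) (hPE : ∀ e ∈ Eh, P * cl e = cl e * P),
      ∀ e : ↥Eh, θ ((cP P hP hPE).toHomUnits e) ∈ Gh := by
    intro P hP hPa hPE e
    rw [hGh, hθ]
    refine ⟨?_, perf_hom L.Eh_perf ((LinearMap.det : Module.End K V →* K).comp (cP P hP hPE)) e⟩
    change (1 + (cl (e : V ≃ₗ[K] V) - 1) * P) * ad (1 + (cl (e : V ≃ₗ[K] V) - 1) * P) = 1
    have h1 := ((hGh (e : V ≃ₗ[K] V)).1 (L.Eh_le e.2)).1
    have h2 := hPE e e.2
    rw [hS.add, Star.one hS, hS.mul, Star.sub hS, Star.one hS, hPa]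
    set a := cl (e : V ≃ₗ[K] V)
    calc (1 + (a - 1) * P) * (1 + P * (ad a - 1)) = 1 + (a - 1) * P + P * (ad a - 1) + (a - 1) * (P * P) * (ad a - 1) := by
          noncomm_ring
      _ = 1 + (a * P - P) + (P * ad a - P) + (a * P - P) * (ad a - 1) := by rw [hP]; noncomm_ring
      _ = 1 + (P * a - P) + (P * ad a - P) + (P * a - P) * (ad a - 1) := by rw [h2]
      _ = 1 + P * (a * ad a - 1) := by noncomm_ring
      _ = 1 := by rw [h1, sub_self, mul_zero, add_zero]
  let ρ₁ : ↥Eh →* ↥Gh := (θ.comp (cP F hF hFE).toHomUnits).codRestrict Gh (key F hF hFa hFE)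
  let ρ₂ : ↥Eh →* ↥Gh := (θ.comp (cP Q hQ hQE).toHomUnits).codRestrict Gh (key Q hQ hQa hQE)
  have hρ₁ : ∀ e : ↥Eh, cl ((ρ₁ e : ↥Gh) : V ≃ₗ[K] V) = 1 + (cl (e : V ≃ₗ[K] V) - 1) * F := fun e => hθ _
  have hρ₂ : ∀ e : ↥Eh, cl ((ρ₂ e : ↥Gh) : V ≃ₗ[K] V) = 1 + (cl (e : V ≃ₗ[K] V) - 1) * Q := fun e => hθ _
  have hFQ : F * Q = 0 := by
    change F * (1 - F) = 0
    rw [mul_sub, mul_one, hF, sub_self]
  have hQF : Q * F = 0 := by
    change (1 - F) * F = 0
    rw [sub_mul, one_mul, hF, sub_self]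
  have hcomm : ∀ (P : Module.End K V), (∀ g ∈ Nh, P * cl g = cl g * P) → ∀ e ∈ Eh, ∀ g ∈ Nh,
      (1 + (cl e - 1) * P) * cl g = cl g * (1 + (cl e - 1) * P) := by
    intro P hP e he g hg
    have h1 := hP g hg
    have h2 := hcomN e he g hg
    calc (1 + (cl e - 1) * P) * cl g = cl g + (cl e - 1) * (P * cl g) := by noncomm_ring
      _ = cl g + (cl e * cl g - cl g) * P := by rw [h1]; noncomm_ring
      _ = cl g * (1 + (cl e - 1) * P) := by rw [h2]; noncomm_ring
  have hT := T3L Kt hL L ρ₁ ρ₂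
    (fun e n hn => LinearEquiv.toLinearMap_injective (by
      have h3 := hcomm F hFN e e.2 n hn
      rw [← hρ₁] at h3
      exact h3))
    (fun e n hn => LinearEquiv.toLinearMap_injective (by
      have h3 := hcomm Q hQN e e.2 n hn
      rw [← hρ₂] at h3
      exact h3))
    (fun e f => Subtype.ext (LinearEquiv.toLinearMap_injective (by
      have h3 : (1 + (cl (e : V ≃ₗ[K] V) - 1) * F) * (1 + (cl (f : V ≃ₗ[K] V) - 1) * Q) =
          (1 + (cl (f : V ≃ₗ[K] V) - 1) * Q) * (1 + (cl (e : V ≃ₗ[K] V) - 1) * F) := by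
        have h4 := hQE e e.2
        have h5 := hFE f f.2
        set a := cl (e : V ≃ₗ[K] V)
        set b := cl (f : V ≃ₗ[K] V)
        have e1 : (a - 1) * F * ((b - 1) * Q) = 0 := by
          calc (a - 1) * F * ((b - 1) * Q) = (a - 1) * (F * b - F) * Q := by noncomm_ring
            _ = (a - 1) * (b - 1) * (F * Q) := by rw [h5]; noncomm_ring
            _ = 0 := by rw [hFQ, mul_zero]
        have e2 : (b - 1) * Q * ((a - 1) * F) = 0 := by
          calc (b - 1) * Q * ((a - 1) * F) = (b - 1) * (Q * a - Q) * F := by noncomm_ring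
            _ = (b - 1) * (a - 1) * (Q * F) := by rw [h4]; noncomm_ring
            _ = 0 := by rw [hQF, mul_zero]
        calc _ = 1 + (a - 1) * F + (b - 1) * Q + (a - 1) * F * ((b - 1) * Q) := by noncomm_ring
          _ = 1 + (a - 1) * F + (b - 1) * Q + (b - 1) * Q * ((a - 1) * F) := by rw [e1, e2]
          _ = _ := by noncomm_ring
      rw [← hρ₁, ← hρ₂] at h3
      exact h3)))
    (fun e => LinearEquiv.toLinearMap_injective (by
      have h3 : cl (e : V ≃ₗ[K] V) = (1 + (cl (e : V ≃ₗ[K] V) - 1) * F) * (1 + (cl (e : V ≃ₗ[K] V) - 1) * Q) := by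
        have h5 := hFE e e.2
        set a := cl (e : V ≃ₗ[K] V)
        have e1 : (a - 1) * F * ((a - 1) * Q) = 0 := by
          calc (a - 1) * F * ((a - 1) * Q) = (a - 1) * (F * a - F) * Q := by noncomm_ring
            _ = (a - 1) * (a - 1) * (F * Q) := by rw [h5]; noncomm_ring
            _ = 0 := by rw [hFQ, mul_zero]
        calc a = 1 + (a - 1) * F + (a - 1) * (1 - F) := by noncomm_ring
          _ = 1 + (a - 1) * F + (a - 1) * Q + (a - 1) * F * ((a - 1) * Q) := by rw [e1, add_zero]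
          _ = _ := by noncomm_ring
      rw [← hρ₁, ← hρ₂] at h3
      exact h3))
  have hsc : ∀ (P R : Module.End K V), P * R = 0 → R ≠ 0 → ∀ (a : Module.End K V) (c : K), 1 + a * P = c • 1 → a * P = 0 := by
    intro P R hPR hR a c h
    have h1 : (c - 1) • R = 0 := by
      have h2 : (1 + a * P) * R = c • R := by rw [h, smul_mul_assoc, one_mul]
      rw [add_mul, one_mul, mul_assoc, hPR, mul_zero, add_zero] at h2
      rw [sub_smul, one_smul, ← h2, sub_self]
    rcases smul_eq_zero.1 h1 with h2 | h2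
    · rw [sub_eq_zero.1 h2, one_smul] at h
      exact add_eq_left.1 h
    · exact absurd h2 hR
  rcases hT with h3 | h3
  · left
    intro e he
    obtain ⟨c, hc'⟩ := (isSc_iff _).1 ((hL.ker _).1 (h3 ⟨e, he⟩))
    have h4 : 1 + (cl e - 1) * F = c • (1 : Module.End K V) := by
      rw [← hρ₁ ⟨e, he⟩]
      exact hc'
    exact hsc F Q hFQ (fun h => hF1 (sub_eq_zero.1 h).symm) _ c h4
  · right
    intro e he
    obtain ⟨c, hc'⟩ := (isSc_iff _).1 ((hL.ker _).1 (h3 ⟨e, he⟩))
    have h4 : 1 + (cl e - 1) * Q = c • (1 : Module.End K V) := by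
      rw [← hρ₂ ⟨e, he⟩]
      exact hc'
    have h5 := hsc Q F hQF hF0 _ c h4
    have h6 : (cl e - 1) * (1 - F) = 0 := h5
    rw [mul_sub, mul_one, sub_eq_zero] at h6
    exact h6.symm

section D

variable {N : Subgroup (V ≃ₗ[K] V)} {ι : Type} [Fintype ι] {m : ι → ℕ} {u : ι → Bool}
  {φ : ∀ i, Matrix (Fin (m i)) (Fin (m i)) K →ₗ[K] Module.End K V}

/-- the idempotent of a component -/
def FF (ad : Module.End K V → Module.End K V) (u : ι → Bool)
    (φ : ∀ i, Matrix (Fin (m i)) (Fin (m i)) K →ₗ[K] Module.End K V) (i : ι) : Module.End K V :=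
  φ i 1 + if u i then 0 else ad (φ i 1)

theorem dec_phi (hD : Dec σ ad N u φ) (hS : Star σ ad) {T : Module.End K V} (hT : ∀ g ∈ N, T * cl g = cl g * T) (i : ι) :
    ∃ X, T * φ i 1 = φ i X ∧ φ i 1 * T = φ i X := by
  classical
  obtain ⟨X, Y, hXY⟩ := hD.surj T hT
  refine ⟨X i, ?_, ?_⟩
  · rw [hXY, Finset.sum_mul, Finset.sum_eq_single i]
    · by_cases hu : u i = true
      · rw [if_pos hu, add_zero, ← hD.mul, mul_one]
      · rw [if_neg hu, add_mul, ← hD.mul, mul_one, (hD.pair i (by simpa using hu) _ _).2, add_zero]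
    · intro k _ hk
      by_cases hu : u k = true
      · rw [if_pos hu, add_zero, hD.orth k i hk]
      · rw [if_neg hu, add_mul, hD.orth k i hk, (hD.orth' k i hk _ _).2, add_zero]
    · intro h
      exact absurd (Finset.mem_univ i) h
  · rw [hXY, Finset.mul_sum, Finset.sum_eq_single i]
    · by_cases hu : u i = true
      · rw [if_pos hu, add_zero, ← hD.mul, one_mul]
      · rw [if_neg hu, mul_add, ← hD.mul, one_mul, (hD.pair i (by simpa using hu) _ _).1, add_zero]
    · intro k _ hk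
      by_cases hu : u k = true
      · rw [if_pos hu, add_zero, hD.orth i k hk.symm]
      · rw [if_neg hu, mul_add, hD.orth i k hk.symm, (hD.orth' i k hk.symm _ _).1, add_zero]
    · intro h
      exact absurd (Finset.mem_univ i) h

theorem dec_sum (hD : Dec σ ad N u φ) (hS : Star σ ad) : ∑ i, FF ad u φ i = 1 := by
  classical
  obtain ⟨X, Y, hXY⟩ := hD.surj 1 (fun g _ => by rw [one_mul, mul_one])
  have hX : ∀ i, X i = 1 := by
    intro i
    have h1 : (1 : Module.End K V) * φ i 1 = φ i (X i) := by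
      rw [hXY, Finset.sum_mul, Finset.sum_eq_single i]
      · by_cases hu : u i = true
        · rw [if_pos hu, add_zero, ← hD.mul, mul_one]
        · rw [if_neg hu, add_mul, ← hD.mul, mul_one, (hD.pair i (by simpa using hu) _ _).2, add_zero]
      · intro k _ hk
        by_cases hu : u k = true
        · rw [if_pos hu, add_zero, hD.orth k i hk]
        · rw [if_neg hu, add_mul, hD.orth k i hk, (hD.orth' k i hk _ _).2, add_zero]
      · intro h
        exact absurd (Finset.mem_univ i) h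
    rw [one_mul] at h1
    exact (hD.inj i h1).symm
  have hY : ∀ i, u i ≠ true → Y i = 1 := by
    intro i hui
    have h1 : (1 : Module.End K V) * ad (φ i 1) = ad (φ i (Y i)) := by
      rw [hXY, Finset.sum_mul, Finset.sum_eq_single i]
      · rw [if_neg hui, add_mul, (hD.pair i (by simpa using hui) _ _).1, zero_add, ← hS.mul, ← hD.mul, one_mul]
      · intro k _ hk
        by_cases hu : u k = true
        · rw [if_pos hu, add_zero, (hD.orth' k i hk _ _).1]
        · rw [if_neg hu, add_mul, (hD.orth' k i hk _ _).1, zero_add, ← hS.mul, hD.orth i k hk.symm, Star.zero hS]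
      · intro h
        exact absurd (Finset.mem_univ i) h
    rw [one_mul] at h1
    have h2 : φ i 1 = φ i (Y i) := by
      rw [← hS.inv (φ i 1), h1, hS.inv]
    exact (hD.inj i h2).symm
  rw [hXY]
  refine Finset.sum_congr rfl fun i _ => ?_
  unfold FF
  by_cases hu : u i = true
  · rw [if_pos hu, if_pos hu, hX]
  · rw [if_neg hu, if_neg hu, hX, hY i hu]

theorem dec_sq (hD : Dec σ ad N u φ) (hS : Star σ ad) (i : ι) : FF ad u φ i * FF ad u φ i = FF ad u φ i := by
  unfold FF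
  have h1 : φ i 1 * φ i 1 = φ i 1 := by rw [← hD.mul, mul_one]
  by_cases hu : u i = true
  · rw [if_pos hu, add_zero, h1]
  · rw [if_neg hu]
    have h2 := (hD.pair i (by simpa using hu) 1 1).1
    have h3 := (hD.pair i (by simpa using hu) 1 1).2
    have h4 : ad (φ i 1) * ad (φ i 1) = ad (φ i 1) := by rw [← hS.mul, h1]
    rw [add_mul, mul_add, mul_add, h1, h2, h3, h4, add_zero, zero_add]

theorem hc_one (σ : K ≃+* K) {n : ℕ} : hc σ (1 : Matrix (Fin n) (Fin n) K) = 1 := by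
  unfold hc
  rw [Matrix.map_one σ (map_zero σ) (map_one σ), Matrix.transpose_one]

theorem dec_ad (hD : Dec σ ad N u φ) (hS : Star σ ad) (i : ι) : ad (FF ad u φ i) = FF ad u φ i := by
  unfold FF
  by_cases hu : u i = true
  · rw [if_pos hu, add_zero, hD.star i hu, hc_one]
  · rw [if_neg hu, hS.add, hS.inv, add_comm]

theorem dec_comm (hD : Dec σ ad N u φ) (hS : Star σ ad) (i : ι) (g : V ≃ₗ[K] V) (hg : cl g * ad (cl g) = 1)
    (h : φ i 1 * cl g = cl g * φ i 1) : FF ad u φ i * cl g = cl g * FF ad u φ i := by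
  unfold FF
  have h1 := ad_eq g hg
  have h2 : ad (φ i 1) * cl g = cl g * ad (φ i 1) := by
    have h3 : φ i 1 * cl g⁻¹ = cl g⁻¹ * φ i 1 := by
      calc φ i 1 * cl g⁻¹ = cl g⁻¹ * (cl g * φ i 1) * cl g⁻¹ := by rw [← mul_assoc, cl_inv_mul, one_mul]
        _ = cl g⁻¹ * φ i 1 * (cl g * cl g⁻¹) := by rw [← h]; noncomm_ring
        _ = _ := by rw [cl_mul_inv, mul_one]
    have h4 := congrArg ad h3
    rw [hS.mul, hS.mul, ← h1, hS.inv] at h4
    exact h4.symm
  by_cases hu : u i = true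
  · rw [if_pos hu, add_zero, h]
  · rw [if_neg hu, add_mul, mul_add, h, h2]

end D

/-- **The component of `Eh`.** -/
theorem exists_dec_comp {ι : Type} [Fintype ι] {m : ι → ℕ} {u : ι → Bool}
    {φ : ∀ i, Matrix (Fin (m i)) (Fin (m i)) K →ₗ[K] Module.End K V} (h2 : (2 : K) ≠ 0)
    (Kt : Kit N0 A E z s x r ψ) (hL : Lin Gh π) (L : LKit Gh π N0 A E z s x r Nh Eh zh sh xh rh)
    (hS : Star σ ad) (hD : Dec σ ad Nh u φ)
    (hGh : ∀ g : V ≃ₗ[K] V, g ∈ Gh ↔ (cl g * ad (cl g) = 1 ∧ LinearMap.det (cl g) = 1)) :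
    ∃ i : ι, FF ad u φ i ≠ 1 ∧ (∀ e ∈ Eh, (cl e - 1) * FF ad u φ i = cl e - 1) ∧
      ∀ e ∈ Eh, ∃ X : Matrix.SpecialLinearGroup (Fin (m i)) K,
        (u i = true ∧ hc σ (X : Matrix (Fin (m i)) (Fin (m i)) K) * X = 1 ∧
          cl e = 1 + φ i ((X : Matrix (Fin (m i)) (Fin (m i)) K) - 1)) ∨
        (u i = false ∧ cl e = 1 + φ i ((X : Matrix (Fin (m i)) (Fin (m i)) K) - 1) +
          ad (φ i (((X⁻¹ : Matrix.SpecialLinearGroup (Fin (m i)) K) : Matrix (Fin (m i)) (Fin (m i)) K) - 1))) := by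
  classical
  have hNG : ∀ g ∈ Nh, cl g * ad (cl g) = 1 := fun g hg => ((hGh g).1 (Nh_le L hg)).1
  have hEG : ∀ g ∈ Eh, cl g * ad (cl g) = 1 := fun g hg => ((hGh g).1 (L.Eh_le hg)).1
  have hEN : ∀ e ∈ Eh, ∀ g ∈ Nh, cl e * cl g = cl g * cl e := fun e he g hg => by
    rw [← cl_mul, ← cl_mul, L.Eh_comm e he g hg]
  have hFN : ∀ i, ∀ g ∈ Nh, FF ad u φ i * cl g = cl g * FF ad u φ i := fun i g hg =>
    dec_comm hD hS i g (hNG g hg) (hD.comm i 1 g hg)
  have hphi : ∀ e ∈ Eh, ∀ i, φ i 1 * cl e = cl e * φ i 1 := by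
    intro e he i
    obtain ⟨X, h3, h4⟩ := dec_phi hD hS (hEN e he) i
    rw [h3, h4]
  have hFE : ∀ i, ∀ g ∈ Eh, FF ad u φ i * cl g = cl g * FF ad u φ i := fun i g hg =>
    dec_comm hD hS i g (hEG g hg) (hphi g hg i)
  -- the index
  obtain ⟨i, hi⟩ : ∃ i, ∀ e ∈ Eh, (cl e - 1) * FF ad u φ i = cl e - 1 := by
    by_contra hcon
    push Not at hcon
    obtain ⟨e, he, hne⟩ := exists_nsc Kt hL L
    apply hne
    have h3 : ∀ i, (cl e - 1) * FF ad u φ i = 0 := by
      intro i
      rcases T3F Kt hL L hS hGh (dec_sq hD hS i) (dec_ad hD hS i) (hFN i) (hFE i) with h4 | h4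
      · exact h4 e he
      · obtain ⟨e', he', hne'⟩ := hcon i
        exact absurd (h4 e' he') hne'
    have h4 : cl e - 1 = 0 := by
      calc cl e - 1 = (cl e - 1) * ∑ i, FF ad u φ i := by rw [dec_sum hD hS, mul_one]
        _ = 0 := by
          rw [Finset.mul_sum]
          exact Finset.sum_eq_zero fun i _ => h3 i
    rw [isSc_iff]
    exact ⟨1, by rw [one_smul]; exact sub_eq_zero.1 h4⟩
  refine ⟨i, ?_, hi, ?_⟩
  · -- `F ≠ 1`
    intro hF1
    apply L.z_ne
    have hzc : ∀ g ∈ Nh, cl zh * cl g = cl g * cl zh := fun g hg => by rw [← cl_mul, ← cl_mul, L.z_comm g hg]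
    obtain ⟨Z, h3, h4⟩ := dec_phi hD hS hzc i
    have hZcen : ∀ Y, Z * Y = Y * Z := by
      intro Y
      refine hD.inj i ?_
      rw [hD.mul, hD.mul, ← h3]
      have h5 := hD.comm i Y zh L.zN
      calc cl zh * φ i 1 * φ i Y = cl zh * φ i Y := by rw [mul_assoc, ← hD.mul, one_mul]
        _ = φ i Y * cl zh := h5.symm
        _ = φ i Y * (φ i 1 * cl zh) := by rw [← mul_assoc, ← hD.mul, mul_one]
        _ = φ i Y * (cl zh * φ i 1) := by rw [h3, h4]
    have hZsq : Z * Z = 1 := by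
      refine hD.inj i ?_
      rw [hD.mul, ← h3]
      calc cl zh * φ i 1 * (cl zh * φ i 1) = cl zh * (φ i 1 * cl zh) * φ i 1 := by noncomm_ring
        _ = cl zh * (cl zh * φ i 1) * φ i 1 := by rw [h3, h4]
        _ = (cl zh * cl zh) * (φ i 1 * φ i 1) := by noncomm_ring
        _ = _ := by
          rw [← cl_mul, L.z_sq, cl_one, one_mul, ← hD.mul, mul_one]
    have hpos := hD.pos i
    have hci : Z ∈ Set.range (Matrix.scalar (Fin (m i)) : K → Matrix (Fin (m i)) (Fin (m i)) K) := by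
      rw [Matrix.mem_range_scalar_iff_commute_single']
      intro a b
      exact (hZcen _).symm
    obtain ⟨d, hd⟩ := hci
    have hdd : d * d = 1 := by
      have h5 := hZsq
      rw [← hd, ← map_mul] at h5
      have h6 := congrFun (congrFun h5 ⟨0, hpos⟩) ⟨0, hpos⟩
      simpa using h6
    have hd1 : d = 1 ∨ d = -1 := mul_self_eq_one_iff.1 hdd
    have hZd : φ i Z = d • φ i 1 := by
      rw [← map_smul, ← hd]
      congr 1
      rw [Matrix.scalar_apply, ← Matrix.smul_one_eq_diagonal]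
    have hσd : σ d = d := by
      rcases hd1 with h | h
      · rw [h, map_one]
      · rw [h, map_neg, map_one]
    have hinv : zh⁻¹ = zh := by rw [inv_eq_iff_mul_eq_one]; exact L.z_sq
    have h5 : cl zh * ad (φ i 1) = d • ad (φ i 1) := by
      have h6 := ad_eq zh (hNG zh L.zN)
      rw [hinv] at h6
      calc cl zh * ad (φ i 1) = ad (cl zh) * ad (φ i 1) := by rw [h6]
        _ = ad (φ i 1 * cl zh) := (hS.mul _ _).symm
        _ = d • ad (φ i 1) := by rw [h4, hZd, hS.smul, hσd]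
    rw [isSc_iff]
    refine ⟨d, ?_⟩
    change cl zh = d • 1
    calc cl zh = cl zh * FF ad u φ i := by rw [hF1, mul_one]
      _ = d • FF ad u φ i := by
        unfold FF
        rw [mul_add, h3, hZd, smul_add]
        by_cases hu : u i = true
        · rw [if_pos hu, mul_zero, smul_zero]
        · rw [if_neg hu, h5]
      _ = d • 1 := by rw [hF1]
  · -- the coordinates
    have hex : ∀ e : ↥Eh, ∃ X, cl (e : V ≃ₗ[K] V) * φ i 1 = φ i X := fun e => by
      obtain ⟨X, h3, -⟩ := dec_phi hD hS (hEN e e.2) i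
      exact ⟨X, h3⟩
    choose c0 hc0 using hex
    let c : ↥Eh →* Matrix (Fin (m i)) (Fin (m i)) K :=
      { toFun := c0
        map_one' := hD.inj i (by
          rw [← hc0]
          change (1 : Module.End K V) * φ i 1 = φ i 1
          rw [one_mul])
        map_mul' := fun e f => hD.inj i (by
          rw [hD.mul, ← hc0, ← hc0, ← hc0]
          have h3 := hphi f f.2 i
          change cl (e : V ≃ₗ[K] V) * cl (f : V ≃ₗ[K] V) * φ i 1 = cl (e : V ≃ₗ[K] V) * φ i 1 * (cl (f : V ≃ₗ[K] V) * φ i 1)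
          calc cl (e : V ≃ₗ[K] V) * cl (f : V ≃ₗ[K] V) * φ i 1 = cl (e : V ≃ₗ[K] V) * (cl (f : V ≃ₗ[K] V) * (φ i 1 * φ i 1)) := by
                rw [← hD.mul, mul_one, mul_assoc]
            _ = cl (e : V ≃ₗ[K] V) * ((cl (f : V ≃ₗ[K] V) * φ i 1) * φ i 1) := by noncomm_ring
            _ = cl (e : V ≃ₗ[K] V) * ((φ i 1 * cl (f : V ≃ₗ[K] V)) * φ i 1) := by rw [h3]
            _ = _ := by noncomm_ring) }
    have hcc : ∀ e : ↥Eh, cl (e : V ≃ₗ[K] V) * φ i 1 = φ i (c e) := hc0
    have hdet : ∀ e : ↥Eh, Matrix.det (c e) = 1 := fun e => perf_hom L.Eh_perf (Matrix.detMonoidHom.comp c) e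
    intro e he
    let e' : ↥Eh := ⟨e, he⟩
    let X : Matrix.SpecialLinearGroup (Fin (m i)) K := ⟨c e', hdet e'⟩
    refine ⟨X, ?_⟩
    have hXi : (((X⁻¹ : Matrix.SpecialLinearGroup (Fin (m i)) K)) : Matrix (Fin (m i)) (Fin (m i)) K) = c e'⁻¹ := by
      have h3 : c e' * c e'⁻¹ = 1 := by rw [← map_mul, mul_inv_cancel, map_one]
      have h4 : (((X⁻¹ : Matrix.SpecialLinearGroup (Fin (m i)) K)) : Matrix (Fin (m i)) (Fin (m i)) K) * c e' = 1 :=
        congrArg Subtype.val (inv_mul_cancel X)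
      calc _ = (((X⁻¹ : Matrix.SpecialLinearGroup (Fin (m i)) K)) : Matrix (Fin (m i)) (Fin (m i)) K) * (c e' * c e'⁻¹) := by
            rw [h3, mul_one]
        _ = _ := by rw [← mul_assoc, h4, one_mul]
    have had := ad_eq e (hEG e he)
    -- the action on the adjoint part
    have hadX : cl e * ad (φ i 1) = ad (φ i (c e'⁻¹)) := by
      rw [← hcc]
      change cl e * ad (φ i 1) = ad (cl e⁻¹ * φ i 1)
      rw [hS.mul, ← had, hS.inv]
      have h3 := dec_comm hD hS i e (hEG e he) (hphi e he i)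
      have h4 := hphi e he i
      -- `ad (φ i 1)` commutes with `e`
      have h5 : φ i 1 * cl e⁻¹ = cl e⁻¹ * φ i 1 := hphi e⁻¹ (inv_mem he) i
      have h6 := congrArg ad h5
      rw [hS.mul, hS.mul, ← had, hS.inv] at h6
      exact h6
    have hmain : cl e = 1 + (cl e * FF ad u φ i - FF ad u φ i) := by
      have h3 := hi e he
      rw [sub_mul, one_mul] at h3
      rw [h3]
      abel
    by_cases hu : u i = true
    · left
      refine ⟨hu, ?_, ?_⟩
      · have h3 : φ i (hc σ (c e')) = φ i (c e'⁻¹) := by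
          rw [← hD.star i hu, ← hcc, ← hcc, hS.mul, had, hD.star i hu, hc_one]
          exact hphi e⁻¹ (inv_mem he) i
        have h4 := hD.inj i h3
        change hc σ (c e') * c e' = 1
        rw [h4, ← map_mul, inv_mul_cancel, map_one]
      · rw [map_sub]
        change cl e = 1 + (φ i (c e') - φ i 1)
        rw [← hcc]
        have h3 : FF ad u φ i = φ i 1 := by
          unfold FF
          rw [if_pos hu, add_zero]
        rw [h3] at hmain
        exact hmain
    · right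
      refine ⟨by simpa using hu, ?_⟩
      rw [map_sub, map_sub, Star.sub hS, hXi]
      change cl e = 1 + (φ i (c e') - φ i 1) + (ad (φ i (c e'⁻¹)) - ad (φ i 1))
      rw [← hcc, ← hadX]
      have h3 : FF ad u φ i = φ i 1 + ad (φ i 1) := by
        unfold FF
        rw [if_neg hu]
      rw [h3] at hmain
      have h4 : 1 + (cl (e' : V ≃ₗ[K] V) * φ i 1 - φ i 1) + (cl e * ad (φ i 1) - ad (φ i 1)) =
          1 + (cl e * (φ i 1 + ad (φ i 1)) - (φ i 1 + ad (φ i 1))) := by
        change 1 + (cl e * φ i 1 - φ i 1) + (cl e * ad (φ i 1) - ad (φ i 1)) = _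
        noncomm_ring
      rw [h4]
      exact hmain

end Cfsg.Agent.H375.C3
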