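import Cfsg.Agent.H415.C3.LKit
import Cfsg.Prelude.Def_Classical

/-!
# S1920, PSL: the linear lift of `PSL_n(F)` (helper375)
-/

set_option autoImplicit false

open Subgroup Module

namespace Cfsg.Agent.H375.C3

open Cfsg.Agent.H415.C3

/-- `SL(V)` in `GL(V)` -/
noncomputable def slV (F : Type*) [Field F] (V : Type*) [AddCommGroup V] [Module F V] : Subgroup (V ≃ₗ[F] V) :=
  (LinearEquiv.det : (V ≃ₗ[F] V) →* Fˣ).ker

theorem mem_slV {F : Type*} [Field F] {V : Type*} [AddCommGroup V] [Module F V] {g : V ≃ₗ[F] V} :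
    g ∈ slV F V ↔ LinearMap.det (g : V →ₗ[F] V) = 1 := by
  unfold slV
  rw [MonoidHom.mem_ker, ← Units.val_inj, LinearEquiv.coe_det, Units.val_one]

/-- **The linear lift of `PSL_n(F)`.** -/
theorem exists_lin {F : Type*} [Field F] {n : ℕ} {G : Type*} [Group G]
    (e : G ≃* Matrix.ProjectiveSpecialLinearGroup (Fin n) F) :
    ∃ π : ↥(slV F (Fin n → F)) →* G, Lin (slV F (Fin n → F)) π := by
  classical
  let φ : Matrix.SpecialLinearGroup (Fin n) F →* ↥(slV F (Fin n → F)) :=
    (Matrix.SpecialLinearGroup.toLin' : Matrix.SpecialLinearGroup (Fin n) F →* _).codRestrict (slV F (Fin n → F)) fun A => by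
      rw [mem_slV]
      have h1 : ((Matrix.SpecialLinearGroup.toLin' A : (Fin n → F) ≃ₗ[F] (Fin n → F)) : (Fin n → F) →ₗ[F] (Fin n → F)) =
          Matrix.toLin' (A : Matrix (Fin n) (Fin n) F) := rfl
      rw [h1, LinearMap.det_toLin', A.2]
  have hφ : ∀ A, ((φ A : (Fin n → F) ≃ₗ[F] (Fin n → F)) : (Fin n → F) →ₗ[F] (Fin n → F)) =
      Matrix.toLin' (A : Matrix (Fin n) (Fin n) F) := fun A => rfl
  have hbij : Function.Bijective φ := by
    constructor
    · intro A B h
      refine Subtype.ext (Matrix.toLin'.injective ?_)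
      rw [← hφ, ← hφ, h]
    · rintro ⟨g, hg⟩
      rw [mem_slV] at hg
      have hd : (LinearMap.toMatrix' (g : (Fin n → F) →ₗ[F] (Fin n → F))).det = 1 := by
        rw [LinearMap.det_toMatrix', hg]
      let B : Matrix.SpecialLinearGroup (Fin n) F := ⟨LinearMap.toMatrix' (g : (Fin n → F) →ₗ[F] (Fin n → F)), hd⟩
      refine ⟨B, Subtype.ext (LinearEquiv.toLinearMap_injective ((hφ B).trans ?_))⟩
      exact Matrix.toLin'_toMatrix' _
  let Φ : Matrix.SpecialLinearGroup (Fin n) F ≃* ↥(slV F (Fin n → F)) := MulEquiv.ofBijective φ hbij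
  refine ⟨(e.symm.toMonoidHom.comp (QuotientGroup.mk' (center (Matrix.SpecialLinearGroup (Fin n) F)))).comp Φ.symm.toMonoidHom, ?_, ?_⟩
  · intro g
    obtain ⟨A, hA⟩ := QuotientGroup.mk'_surjective _ (e g)
    refine ⟨Φ A, ?_⟩
    change e.symm (QuotientGroup.mk' _ (Φ.symm (Φ A))) = g
    rw [MulEquiv.symm_apply_apply, hA, MulEquiv.symm_apply_apply]
  · intro g
    obtain ⟨A, rfl⟩ := Φ.surjective g
    have h1 : ((e.symm.toMonoidHom.comp (QuotientGroup.mk' (center (Matrix.SpecialLinearGroup (Fin n) F)))).comp Φ.symm.toMonoidHom)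
        (Φ A) = e.symm (QuotientGroup.mk' _ A) := by
      change e.symm (QuotientGroup.mk' _ (Φ.symm (Φ A))) = _
      rw [MulEquiv.symm_apply_apply]
    rw [h1, EmbeddingLike.map_eq_one_iff, ← MonoidHom.mem_ker, QuotientGroup.ker_mk',
      Matrix.SpecialLinearGroup.mem_center_iff]
    constructor
    · rintro ⟨c, -, hc⟩
      refine ⟨c, fun v => ?_⟩
      change (A : Matrix (Fin n) (Fin n) F).mulVec v = c • v
      rw [← hc, Matrix.scalar_apply, ← Matrix.smul_one_eq_diagonal, Matrix.smul_mulVec, Matrix.one_mulVec]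
    · rintro ⟨c, hc⟩
      have hc' : ∀ v, (A : Matrix (Fin n) (Fin n) F).mulVec v = c • v := hc
      have h2 : Matrix.scalar (Fin n) c = (A : Matrix (Fin n) (Fin n) F) := by
        refine Matrix.ext_of_mulVec_single fun i => ?_
        rw [hc', Matrix.scalar_apply, ← Matrix.smul_one_eq_diagonal, Matrix.smul_mulVec, Matrix.one_mulVec]
      refine ⟨c, ?_, h2⟩
      have h3 := A.2
      rw [← h2, Matrix.scalar_apply, Matrix.det_diagonal, Finset.prod_const, Finset.card_univ] at h3
      exact h3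

end Cfsg.Agent.H375.C3
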