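import Mathlib
import Cfsg.Agent.S0243
import Cfsg.Agent.S2540
import Cfsg.Agent.LieClassical.SLGen
import Cfsg.Agent.H259.NatMod

/-!
# S1920, PSL: `SL_n(D)` maps onto `A₆` only for `n = 2`, `|D| = 9` (helper375)
-/

set_option autoImplicit false

open Matrix

namespace Cfsg.Agent.H375.C3

/-- `SL_n(D)`, `|D|` odd, of order at least 360 is perfect -/
theorem perf_SL {D : Type*} [Field D] [Finite D] (hodd : Odd (Nat.card D)) (n : ℕ)
    (hge : 360 ≤ Nat.card (SpecialLinearGroup (Fin n) D)) : commutator (SpecialLinearGroup (Fin n) D) = ⊤ := by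
  classical
  have hft := Fintype.ofFinite D
  rw [Nat.card_eq_fintype_card] at hodd
  have hq1 : 1 < Fintype.card D := Fintype.one_lt_card
  have hn : 2 ≤ n := by
    by_contra hcon
    have hsub : Subsingleton (Fin n) := by
      rw [Fin.subsingleton_iff_le_one]
      omega
    have h1 : Subsingleton (SpecialLinearGroup (Fin n) D) := inferInstance
    have h2 : Nat.card (SpecialLinearGroup (Fin n) D) ≤ 1 := Finite.card_le_one_iff_subsingleton.2 h1
    omega
  by_cases h3 : 3 ≤ n
  · exact Cfsg.Agent.LieClassical.SLGen.commutator_eq_top (by rw [Fintype.card_fin]; exact h3)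
  · obtain rfl : n = 2 := by omega
    refine Cfsg.Agent.H259.NatMod.commutator_eq_top ?_
    by_contra hcon
    have hq3 : Fintype.card D = 3 := by
      obtain ⟨k, hk⟩ := hodd
      omega
    have h4 := Cfsg.Agent.S0242.result (F := D) hq3 2 (by norm_num)
    rw [Fin.prod_univ_two] at h4
    have h5 : (3 ^ 2 - 3 ^ ((0 : Fin 2) : ℕ)) * (3 ^ 2 - 3 ^ ((1 : Fin 2) : ℕ)) = 48 := rfl
    rw [h5] at h4
    omega

/-- **`SL_n(D)`, `|D|` odd, maps onto `A₆` only for `n = 2`, `|D| = 9`.** -/
theorem nine {D : Type*} [Field D] [Finite D] (hodd : Odd (Nat.card D)) (n : ℕ)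
    (f : SpecialLinearGroup (Fin n) D →* alternatingGroup (Fin 6)) (hf : Function.Surjective f) :
    n = 2 ∧ Nat.card D = 9 := by
  classical
  have hft := Fintype.ofFinite D
  rw [Nat.card_eq_fintype_card] at hodd ⊢
  have hA : Nat.card (alternatingGroup (Fin 6)) = 360 := by
    rw [nat_card_alternatingGroup]
    simp [Nat.factorial]
  have hfin : Finite (SpecialLinearGroup (Fin n) D) := inferInstance
  have hge : 360 ≤ Nat.card (SpecialLinearGroup (Fin n) D) := by
    rw [← hA]
    exact Nat.card_le_card_of_surjective f hf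
  have hn : 2 ≤ n := by
    by_contra hcon
    have hsub : Subsingleton (Fin n) := by
      rw [Fin.subsingleton_iff_le_one]
      omega
    have h1 : Subsingleton (SpecialLinearGroup (Fin n) D) := inferInstance
    have h2 : Nat.card (SpecialLinearGroup (Fin n) D) ≤ 1 := Finite.card_le_one_iff_subsingleton.2 h1
    omega
  have hq1 : 1 < Fintype.card D := Fintype.one_lt_card
  -- the group is perfect
  have hperf : commutator (SpecialLinearGroup (Fin n) D) = ⊤ := by
    by_cases h3 : 3 ≤ n
    · exact Cfsg.Agent.LieClassical.SLGen.commutator_eq_top (by rw [Fintype.card_fin]; exact h3)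
    · obtain rfl : n = 2 := by omega
      refine Cfsg.Agent.H259.NatMod.commutator_eq_top ?_
      by_contra hcon
      have hq3 : Fintype.card D = 3 := by
        obtain ⟨k, hk⟩ := hodd
        omega
      have h4 := Cfsg.Agent.S0242.result (F := D) hq3 2 (by norm_num)
      rw [Fin.prod_univ_two] at h4
      have h5 : (3 ^ 2 - 3 ^ ((0 : Fin 2) : ℕ)) * (3 ^ 2 - 3 ^ ((1 : Fin 2) : ℕ)) = 48 := rfl
      rw [h5] at h4
      omega
  have hnt : Nontrivial (Fin n) := Fin.nontrivial_iff_two_le.2 hn
  have hsimple : IsSimpleGroup (ProjectiveSpecialLinearGroup (Fin n) D) :=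
    Cfsg.Agent.LieClassical.SLGen.psl_isSimpleGroup_of_perfect hperf
  -- the kernel is the centre
  have hker : f.ker = Subgroup.center (SpecialLinearGroup (Fin n) D) := by
    apply le_antisymm
    · rcases Cfsg.Agent.S2540.normal_dichotomy hperf hsimple f.ker with h | h
      · exact h
      · exfalso
        have h1 : Subsingleton (alternatingGroup (Fin 6)) := by
          refine ⟨fun a b => ?_⟩
          obtain ⟨x, rfl⟩ := hf a
          obtain ⟨y, rfl⟩ := hf b
          have hx : x ∈ f.ker := by rw [h]; trivial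
          have hy : y ∈ f.ker := by rw [h]; trivial
          rw [MonoidHom.mem_ker.1 hx, MonoidHom.mem_ker.1 hy]
        have h2 : Nat.card (alternatingGroup (Fin 6)) ≤ 1 := Finite.card_le_one_iff_subsingleton.2 h1
        omega
    · intro u hu
      have hs : IsSimpleGroup (alternatingGroup (Fin 6)) := alternatingGroup.isSimpleGroup (by simp)
      have h1 : f u ∈ Subgroup.center (alternatingGroup (Fin 6)) := by
        rw [Subgroup.mem_center_iff]
        intro a
        obtain ⟨x, rfl⟩ := hf a
        rw [← map_mul, ← map_mul, Subgroup.mem_center_iff.1 hu x]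
      have h2 : Subgroup.center (alternatingGroup (Fin 6)) = ⊥ := by
        rcases hs.eq_bot_or_eq_top_of_normal (Subgroup.center (alternatingGroup (Fin 6))) inferInstance with h | h
        · exact h
        · exfalso
          have h3 : ∀ a b : alternatingGroup (Fin 6), a * b = b * a := by
            intro a b
            have h4 : b ∈ Subgroup.center (alternatingGroup (Fin 6)) := by rw [h]; trivial
            exact Subgroup.mem_center_iff.1 h4 a
          have h5 := h3 ⟨Equiv.swap 0 1 * Equiv.swap 1 2, Equiv.Perm.mem_alternatingGroup.2 (by decide)⟩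
            ⟨Equiv.swap 0 1 * Equiv.swap 1 3, Equiv.Perm.mem_alternatingGroup.2 (by decide)⟩
          exact absurd (congrArg Subtype.val h5) (by decide)
      rw [h2, Subgroup.mem_bot] at h1
      exact MonoidHom.mem_ker.2 h1
  have hcard : Nat.card (ProjectiveSpecialLinearGroup (Fin n) D) = 360 := by
    rw [← hA]
    have h1 : Nat.card (SpecialLinearGroup (Fin n) D ⧸ f.ker) = Nat.card (alternatingGroup (Fin 6)) :=
      Nat.card_congr (QuotientGroup.quotientKerEquivOfSurjective f hf).toEquiv
    rw [hker] at h1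
    exact h1
  have hmain := Cfsg.Agent.S0243.result (F := D) rfl n hn
  rw [hcard] at hmain
  set q := Fintype.card D with hq
  by_cases h3 : 3 ≤ n
  · exfalso
    have h4 : q ^ 3 ∣ ∏ i : Fin n, (q ^ n - q ^ (i : ℕ)) := by
      have h5 : ∏ i ∈ ({⟨1, by omega⟩, ⟨2, by omega⟩} : Finset (Fin n)), (q ^ n - q ^ (i : ℕ)) ∣
          ∏ i : Fin n, (q ^ n - q ^ (i : ℕ)) := Finset.prod_dvd_prod_of_subset _ _ _ (Finset.subset_univ _)
      refine dvd_trans ?_ h5
      rw [Finset.prod_pair (by simp)]
      have h6 : q ∣ q ^ n - q ^ ((⟨1, by omega⟩ : Fin n) : ℕ) := by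
        refine Nat.dvd_sub (dvd_pow_self _ (by omega)) ?_
        change q ∣ q ^ 1
        rw [pow_one]
      have h7 : q ^ 2 ∣ q ^ n - q ^ ((⟨2, by omega⟩ : Fin n) : ℕ) := by
        refine Nat.dvd_sub (pow_dvd_pow _ (by omega)) ?_
        exact dvd_rfl
      calc q ^ 3 = q * q ^ 2 := by ring
        _ ∣ _ := mul_dvd_mul h6 h7
    rw [← hmain] at h4
    have hcop : Nat.Coprime q (q - 1) := by
      have h5 : q = (q - 1) + 1 := by omega
      conv_lhs => rw [h5]
      simp
    have hc1 : Nat.Coprime (q ^ 3) (Nat.gcd n (q - 1)) :=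
      Nat.Coprime.pow_left 3 (Nat.Coprime.coprime_dvd_right (Nat.gcd_dvd_right _ _) hcop)
    have hc2 : Nat.Coprime (q ^ 3) (q - 1) := Nat.Coprime.pow_left 3 hcop
    have h5 : q ^ 3 ∣ 360 := hc2.dvd_of_dvd_mul_left (hc1.dvd_of_dvd_mul_left h4)
    have h6 : Nat.Coprime (q ^ 3) 8 := by
      have h7 : Nat.Coprime q 2 := Nat.coprime_two_right.2 hodd
      exact Nat.Coprime.pow 3 3 h7
    have h7 : q ^ 3 ∣ 45 := by
      refine h6.dvd_of_dvd_mul_left ?_
      norm_num
      exact h5
    have h8 : q ^ 3 ≤ 45 := Nat.le_of_dvd (by norm_num) h7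
    have h9 : q < 4 := by
      by_contra hcon
      have : 4 ^ 3 ≤ q ^ 3 := Nat.pow_le_pow_left (by omega) 3
      omega
    obtain ⟨k, hk⟩ := hodd
    have h10 : q = 3 := by omega
    rw [h10] at h7
    norm_num at h7
  · obtain rfl : n = 2 := by omega
    refine ⟨rfl, ?_⟩
    rw [Fin.prod_univ_two] at hmain
    obtain ⟨k, hk⟩ := hodd
    have hg : Nat.gcd 2 (q - 1) = 2 := by
      rw [hk]
      simp
    rw [hg, hk] at hmain
    have h4 : 2 * k + 1 - 1 = 2 * k := by omega
    have h5 : (2 * k + 1) ^ 2 - (2 * k + 1) ^ ((0 : Fin 2) : ℕ) = 2 * k * (2 * k + 2) := by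
      simp
      have : (2 * k + 1) ^ 2 = 2 * k * (2 * k + 2) + 1 := by ring
      omega
    have h6 : (2 * k + 1) ^ 2 - (2 * k + 1) ^ ((1 : Fin 2) : ℕ) = (2 * k + 1) * (2 * k) := by
      simp
      have : (2 * k + 1) ^ 2 = (2 * k + 1) * (2 * k) + (2 * k + 1) := by ring
      omega
    rw [h4, h5, h6] at hmain
    have hk0 : 0 < k := by omega
    have h7 : 720 = (2 * k + 2) * ((2 * k + 1) * (2 * k)) := by
      have h8 : (2 * k) * 720 = (2 * k) * ((2 * k + 2) * ((2 * k + 1) * (2 * k))) := by
        calc (2 * k) * 720 = 2 * (2 * k * 360) := by ring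
          _ = _ := by rw [hmain]; ring
      exact Nat.eq_of_mul_eq_mul_left (by omega) h8
    have h8 : k < 5 := by
      by_contra hcon
      push Not at hcon
      have : (2 * 5 + 2) * ((2 * 5 + 1) * (2 * 5)) ≤ (2 * k + 2) * ((2 * k + 1) * (2 * k)) := by gcongr
      omega
    rw [hk]
    interval_cases k <;> omega

end Cfsg.Agent.H375.C3
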