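import Cfsg.Agent.H375.C3.Uni

/-!
# S1920, PSU: the contradiction from a decomposition, modulo the unitary components of degree `≥ 3` (helper375)
-/

set_option autoImplicit false

open Subgroup Module

namespace Cfsg.Agent.H375.C3

open Cfsg.Agent.H415.C3
open Cfsg.Agent.H601.C3 (Star hc Dec)

universe u v

variable {G : Type*} [Group G] {K : Type u} [Field K] {V : Type v} [AddCommGroup V] [Module K V]
variable {Gh : Subgroup (V ≃ₗ[K] V)} {π : ↥Gh →* G} {N0 A E : Subgroup G} {z s x r : G}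
  {ψ : ↥A →* Equiv.Perm (Fin 6)} {Nh Eh : Subgroup (V ≃ₗ[K] V)} {zh sh xh rh : V ≃ₗ[K] V}
variable {σ : K ≃+* K} {ad : Module.End K V → Module.End K V}

/-- **The contradiction for `SU(V)`**, `hbig` = the unitary components of degree `≥ 3`. -/
theorem psu_false_of [Finite G] [Finite K] {ι : Type} [Fintype ι] {m : ι → ℕ} {u : ι → Bool}
    {φ : ∀ i, Matrix (Fin (m i)) (Fin (m i)) K →ₗ[K] Module.End K V} (h2 : (2 : K) ≠ 0)
    (Kt : Kit N0 A E z s x r ψ) (hL : Lin Gh π) (L : LKit Gh π N0 A E z s x r Nh Eh zh sh xh rh)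
    (hS : Star σ ad) (hD : Dec σ ad Nh u φ)
    (hGh : ∀ g : V ≃ₗ[K] V, g ∈ Gh ↔ (cl g * ad (cl g) = 1 ∧ LinearMap.det (cl g) = 1))
    {q : ℕ} (hq : Nat.card K = q ^ 2) (hσ : ∀ c, σ c = c ^ q) (hdet : ∀ T, LinearMap.det (ad T) = σ (LinearMap.det T))
    (hbig : ∀ i : ι, 3 ≤ m i → u i = true → (∀ e ∈ Eh, ∃ X : Matrix.SpecialLinearGroup (Fin (m i)) K,
      hc σ (X : Matrix (Fin (m i)) (Fin (m i)) K) * X = 1 ∧ cl e = 1 + φ i ((X : Matrix (Fin (m i)) (Fin (m i)) K) - 1)) →
      False) : False := by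
  classical
  obtain ⟨i, hF1, hFE, hE⟩ := exists_dec_comp h2 Kt hL L hS hD hGh
  by_cases hu : u i = true
  · have hE' : ∀ e ∈ Eh, ∃ X : Matrix.SpecialLinearGroup (Fin (m i)) K,
        hc σ (X : Matrix (Fin (m i)) (Fin (m i)) K) * X = 1 ∧
          cl e = 1 + φ i ((X : Matrix (Fin (m i)) (Fin (m i)) K) - 1) := by
      intro e he
      obtain ⟨X, h | h⟩ := hE e he
      · exact ⟨X, h.2⟩
      · rw [hu] at h
        exact absurd h.1 (by decide)
    by_cases h3 : 3 ≤ m i
    · exact hbig i h3 hu hE'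
    · by_cases hm2 : m i = 2
      · exact uni_two h2 Kt hL L hS hGh hq hσ hm2 (hD.mul i) (hD.inj i) (hD.comm i) (hD.star i hu) hE'
      · -- `m i = 1`
        have hpos := hD.pos i
        have hm1 : m i = 1 := by omega
        obtain ⟨e, he, hne⟩ := exists_nsc Kt hL L
        apply hne
        obtain ⟨X, -, hX⟩ := hE' e he
        have hsub : ∀ (n : ℕ) (_ : n = 1) (X : Matrix.SpecialLinearGroup (Fin n) K), (X : Matrix (Fin n) (Fin n) K) = 1 := by
          intro n hn X
          subst hn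
          have h4 := X.2
          rw [Matrix.det_fin_one] at h4
          ext a b
          fin_cases a
          fin_cases b
          exact h4
        rw [isSc_iff]
        refine ⟨1, ?_⟩
        rw [one_smul]
        change cl e = 1
        rw [hX, hsub _ hm1 X, sub_self, map_zero, add_zero]
  · have hu' : u i = false := by simpa using hu
    refine pair_false h2 Kt hL L hS hD hGh hq hσ hdet i hF1 hFE hu' ?_
    intro e he
    obtain ⟨X, h | h⟩ := hE e he
    · rw [hu'] at h
      exact absurd h.1 (by decide)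
    · exact ⟨X, h.2⟩

end Cfsg.Agent.H375.C3
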