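import Cfsg.Agent.H375.C3.DecComp
import Cfsg.Agent.H375.C3.Nine
import Cfsg.Agent.H375.C3.Kill

/-!
# S1920, PSU: the pair component (helper375)
-/

set_option autoImplicit false

open Subgroup Module
open scoped commutatorElement

namespace Cfsg.Agent.H375.C3

open Cfsg.Agent.H415.C3
open Cfsg.Agent.H601.C3 (Star hc Dec)

universe u v w

variable {G : Type*} [Group G] {K : Type u} [Field K] {V : Type v} [AddCommGroup V] [Module K V]
variable {Gh : Subgroup (V ≃ₗ[K] V)} {π : ↥Gh →* G} {N0 A E : Subgroup G} {z s x r : G}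
  {ψ : ↥A →* Equiv.Perm (Fin 6)} {Nh Eh : Subgroup (V ≃ₗ[K] V)} {zh sh xh rh : V ≃ₗ[K] V}
variable {σ : K ≃+* K} {ad : Module.End K V → Module.End K V}

/-- `n = 2`, `|D| = 9` for a homomorphism of `SL_n(D)` into the commutant of `Nh` covering `Eh` -/
theorem two_nine' (Kt : Kit N0 A E z s x r ψ) (hL : Lin Gh π)
    (L : LKit Gh π N0 A E z s x r Nh Eh zh sh xh rh)
    {n : ℕ} {D : Type w} [Field D] [Finite D] (hodd : Odd (Nat.card D))
    (Λ : Matrix.SpecialLinearGroup (Fin n) D →* (V ≃ₗ[K] V)) (hcomm : ∀ U, ∀ g ∈ Nh, Λ U * g = g * Λ U)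
    (hE : ∀ e ∈ Eh, ∃ U, Λ U = e)
    (hG : commutator (Matrix.SpecialLinearGroup (Fin n) D) = ⊤ → ∀ U, Λ U ∈ Gh) :
    n = 2 ∧ Nat.card D = 9 ∧ ∀ U, Λ U ∈ Gh := by
  classical
  have hΛA : ∀ U, ∀ h : Λ U ∈ Gh, π ⟨Λ U, h⟩ ∈ A := fun U h =>
    Kt.comm_mem (comm_pi hL L h fun g hg => hcomm U g hg)
  have hex : ∀ τ : alternatingGroup (Fin 6), ∃ U : Matrix.SpecialLinearGroup (Fin n) D, ∃ h : Λ U ∈ Gh,
      ψ ⟨π ⟨Λ U, h⟩, hΛA U h⟩ = τ := by
    intro τ
    obtain ⟨e, he, hτ⟩ := Kt.E_img τ (Equiv.Perm.mem_alternatingGroup.1 τ.2)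
    obtain ⟨g, hg, hge⟩ := L.Eh_surj e he
    obtain ⟨U, hU⟩ := hE g hg
    subst hU
    refine ⟨U, L.Eh_le hg, ?_⟩
    have h3 := hge (L.Eh_le hg)
    subst h3
    exact hτ _
  choose u hu huτ using hex
  have hui : Function.Injective u := by
    intro τ τ' h
    refine Subtype.ext ?_
    rw [← huτ τ, ← huτ τ']
    congr 3
    exact Subtype.ext (congrArg Λ h)
  have hcard : 360 ≤ Nat.card (Matrix.SpecialLinearGroup (Fin n) D) := by
    have h3 := Nat.card_le_card_of_injective u hui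
    have hA : Nat.card (alternatingGroup (Fin 6)) = 360 := by
      rw [nat_card_alternatingGroup]
      simp [Nat.factorial]
    rwa [hA] at h3
  have hperf := perf_SL hodd n hcard
  have hmem : ∀ U, Λ U ∈ Gh := hG hperf
  have hs : ∀ U, Equiv.Perm.sign (ψ ⟨π ⟨Λ U, hmem U⟩, hΛA U (hmem U)⟩) = 1 := fun U =>
    Kt.even_of_comm (comm_pi hL L (hmem U) fun g hg => hcomm U g hg) _
  let f1 : Matrix.SpecialLinearGroup (Fin n) D →* ↥Gh := Λ.codRestrict Gh hmem
  let f2 : Matrix.SpecialLinearGroup (Fin n) D →* ↥A := (π.comp f1).codRestrict A fun U => hΛA U (hmem U)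
  let f : Matrix.SpecialLinearGroup (Fin n) D →* alternatingGroup (Fin 6) :=
    (ψ.comp f2).codRestrict (alternatingGroup (Fin 6)) fun U => Equiv.Perm.mem_alternatingGroup.2 (hs U)
  have hf : Function.Surjective f := fun τ => ⟨u τ, Subtype.ext (huτ τ)⟩
  obtain ⟨hn, hD9⟩ := nine hodd n f hf
  exact ⟨hn, hD9, hmem⟩

/-- the final contradiction: `τ = 1 + (i - 1) F` is inverted by `rh` modulo scalars, but `rh` normalises `Eh` -/
theorem tau_false [Finite G] (Kt : Kit N0 A E z s x r ψ) (hL : Lin Gh π)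
    (L : LKit Gh π N0 A E z s x r Nh Eh zh sh xh rh) (h2 : (2 : K) ≠ 0) {F : Module.End K V} (hF : F * F = F) (hF1 : F ≠ 1)
    (hFE : ∀ e ∈ Eh, (cl e - 1) * F = cl e - 1) {i : K} (hi : i * i = -1) {τ : V ≃ₗ[K] V}
    (hτ : cl τ = 1 + (i - 1) • F) (hτG : τ ∈ Gh) (hτN : ∀ g ∈ Nh, τ * g = g * τ) (hτE : ∀ e ∈ Eh, τ * e = e * τ) : False := by
  classical
  have hmul : ∀ a b : K, (1 + (a - 1) • F) * (1 + (b - 1) • F) = 1 + (a * b - 1) • F := by
    intro a b
    rw [add_mul, mul_add, mul_add, smul_mul_smul_comm, hF, one_mul, mul_one, one_mul]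
    module
  have hnsc : ∀ (a c : K), 1 + (a - 1) • F = c • (1 : Module.End K V) → a = 1 ∨ F = 0 := by
    intro a c h
    have h3 : (c - 1) • (1 - F) = 0 := by
      have h4 : (1 + (a - 1) • F) * (1 - F) = c • (1 - F) := by rw [h, smul_mul_assoc, one_mul]
      rw [add_mul, one_mul, smul_mul_assoc, mul_sub, mul_one, hF, sub_self, smul_zero, add_zero] at h4
      rw [sub_smul, one_smul, ← h4, sub_self]
    rcases smul_eq_zero.1 h3 with h4 | h4
    · rw [sub_eq_zero.1 h4, one_smul] at h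
      rcases smul_eq_zero.1 (add_eq_left.1 h) with h5 | h5
      · exact Or.inl (sub_eq_zero.1 h5)
      · exact Or.inr h5
    · exact absurd (sub_eq_zero.1 h4).symm hF1
  -- a nontrivial element of `Eh`
  obtain ⟨e, he, hne⟩ : ∃ e ∈ Eh, cl e - 1 ≠ 0 := by
    obtain ⟨e, he, hne⟩ := exists_nsc Kt hL L
    refine ⟨e, he, fun h => hne ?_⟩
    rw [isSc_iff]
    exact ⟨1, by rw [one_smul]; exact sub_eq_zero.1 h⟩
  have hF0 : F ≠ 0 := by
    rintro rfl
    have := hFE e he
    rw [mul_zero] at this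
    exact hne this.symm
  -- `π τ`
  have hcN := comm_pi hL L hτG hτN
  have hcE : ∀ e ∈ E, π ⟨τ, hτG⟩ * e = e * π ⟨τ, hτG⟩ := by
    intro e he
    obtain ⟨g, hg, hge⟩ := L.Eh_surj e he
    rw [← hge (L.Eh_le hg), ← map_mul, ← map_mul]
    exact congrArg π (Subtype.ext (hτE g hg))
  have hτ2 : cl (τ * τ) = 1 + (i * i - 1) • F := by rw [cl_mul, hτ, hmul]
  have hτ4 : τ ^ 4 = 1 := by
    refine LinearEquiv.toLinearMap_injective ?_
    have h3 : τ ^ 4 = (τ * τ) * (τ * τ) := by simp only [pow_succ, pow_zero, one_mul, mul_assoc]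
    have h4 : cl (τ ^ 4) = 1 := by
      rw [h3, cl_mul, hτ2, hmul, hi]
      norm_num
    exact h4
  have hpow : (π ⟨τ, hτG⟩) ^ 2 ^ 2 = 1 := by
    have h3 : (⟨τ, hτG⟩ : ↥Gh) ^ 2 ^ 2 = 1 := Subtype.ext hτ4
    rw [← map_pow, h3, map_one]
  have hT4 := Kt.T4E hcN hpow hcE
  have hsq : (π ⟨τ, hτG⟩) * (π ⟨τ, hτG⟩) ≠ 1 := by
    intro h3
    rw [← map_mul] at h3
    obtain ⟨c, hc'⟩ := (isSc_iff _).1 ((hL.ker _).1 h3)
    have h4 : 1 + (i * i - 1) • F = c • (1 : Module.End K V) := by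
      rw [← hτ2]
      exact hc'
    rcases hnsc _ _ h4 with h5 | h5
    · rw [hi] at h5
      apply h2
      linear_combination -h5
    · exact hF0 h5
  have hinv : r * π ⟨τ, hτG⟩ = (π ⟨τ, hτG⟩)⁻¹ * r := by
    obtain ⟨k, hk⟩ := mem_zpowers_iff.1 hT4
    rw [← hk]
    have h3 : ∀ k : ℤ, r * s ^ k = (s ^ k)⁻¹ * r := by
      intro k
      have h4 : r * s * r⁻¹ = s⁻¹ := by rw [Kt.r_s, mul_inv_cancel_right]
      have h5 : r * s ^ k * r⁻¹ = (s ^ k)⁻¹ := by rw [← conj_zpow, h4, inv_zpow]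
      rw [← h5, inv_mul_cancel_right]
    exact h3 k
  -- the lift
  have hlift : ∃ c : K, cl rh * cl τ * cl rh⁻¹ * cl τ = c • 1 := by
    have h3 : π (⟨rh, L.rG⟩ * ⟨τ, hτG⟩ * (⟨rh, L.rG⟩)⁻¹ * ⟨τ, hτG⟩) = 1 := by
      rw [map_mul, map_mul, map_mul, map_inv, L.pi_r]
      rw [hinv, mul_inv_cancel_right, inv_mul_cancel]
    obtain ⟨c, hc'⟩ := (isSc_iff _).1 ((hL.ker _).1 h3)
    exact ⟨c, hc'⟩
  obtain ⟨c, hc'⟩ := hlift
  set R := cl rh with hR
  set R' := cl rh⁻¹ with hR'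
  have hRR : R * R' = 1 := cl_mul_inv rh
  have hRR' : R' * R = 1 := cl_inv_mul rh
  let F' := R * F * R'
  have hF' : F' * F' = F' := by
    change R * F * R' * (R * F * R') = R * F * R'
    calc R * F * R' * (R * F * R') = R * F * (R' * R) * F * R' := by noncomm_ring
      _ = R * (F * F) * R' := by rw [hRR', mul_one]; noncomm_ring
      _ = _ := by rw [hF]
  have hτ' : R * cl τ * R' = 1 + (i - 1) • F' := by
    rw [hτ, mul_add, add_mul, mul_one, hRR, mul_smul_comm, smul_mul_assoc]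
  have hF'E : ∀ e ∈ Eh, (cl e - 1) * F' = cl e - 1 := by
    intro e he
    have he' : rh⁻¹ * e * rh ∈ Eh := by
      have h3 := (mem_normalizer_iff.1 (inv_mem L.rE) e).1 he
      rwa [inv_inv] at h3
    have h3 := hFE _ he'
    have h4 : cl (rh⁻¹ * e * rh) = R' * cl e * R := rfl
    rw [h4] at h3
    have h5 := congrArg (fun t => R * t * R') h3
    have h6 : R * ((R' * cl e * R - 1) * F) * R' = (cl e - 1) * F' := by
      change R * ((R' * cl e * R - 1) * F) * R' = (cl e - 1) * (R * F * R')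
      calc R * ((R' * cl e * R - 1) * F) * R' = (R * R') * cl e * R * F * R' - R * F * R' := by noncomm_ring
        _ = _ := by rw [hRR]; noncomm_ring
    have h7 : R * (R' * cl e * R - 1) * R' = cl e - 1 := by
      calc R * (R' * cl e * R - 1) * R' = (R * R') * cl e * (R * R') - R * R' := by noncomm_ring
        _ = _ := by rw [hRR]; noncomm_ring
    rw [h6, h7] at h5
    exact h5
  -- `c = -1`
  have hc1 : c = -1 := by
    have h3 := congrArg (fun t => (cl e - 1) * t) hc'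
    rw [hτ', hτ] at h3
    have h4 : (cl e - 1) * ((1 + (i - 1) • F') * (1 + (i - 1) • F)) = -(cl e - 1) := by
      calc (cl e - 1) * ((1 + (i - 1) • F') * (1 + (i - 1) • F))
          = ((cl e - 1) + (i - 1) • ((cl e - 1) * F')) * (1 + (i - 1) • F) := by
            rw [← mul_assoc, mul_add (cl e - 1) 1 ((i - 1) • F'), mul_one, mul_smul_comm]
        _ = (i • (cl e - 1)) * (1 + (i - 1) • F) := by
            rw [hF'E e he]
            congr 1
            rw [sub_smul, one_smul]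
            abel
        _ = i • ((cl e - 1) + (i - 1) • ((cl e - 1) * F)) := by
            rw [smul_mul_assoc, mul_add, mul_one, mul_smul_comm]
        _ = (i * i) • (cl e - 1) := by
            rw [hFE e he, mul_smul]
            congr 1
            rw [sub_smul, one_smul]
            abel
        _ = -(cl e - 1) := by rw [hi, neg_smul, one_smul]
    rw [h4, mul_smul_comm, mul_one] at h3
    have h5 : (c + 1) • (cl e - 1) = 0 := by rw [add_smul, one_smul, ← h3]; abel
    rcases smul_eq_zero.1 h5 with h6 | h6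
    · exact eq_neg_of_add_eq_zero_left h6
    · exact absurd h6 hne
  -- the complement
  rw [hτ', hτ, hc1] at hc'
  have h3 := congrArg (fun t => t * (1 - F)) hc'
  have hF1' : F * (1 - F) = 0 := by rw [mul_sub, mul_one, hF, sub_self]
  have h4 : (1 + (i - 1) • F') * (1 + (i - 1) • F) * (1 - F) = (1 - F) + (i - 1) • (F' * (1 - F)) := by
    rw [mul_assoc, add_mul 1 ((i - 1) • F) (1 - F), one_mul, smul_mul_assoc, hF1', smul_zero, add_zero, add_mul, one_mul,
      smul_mul_assoc]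
  rw [h4, neg_smul, one_smul, neg_mul, one_mul] at h3
  have h5 : (i - 1) • (F' * (1 - F)) = (-2 : K) • (1 - F) := by
    have h6 : (i - 1) • (F' * (1 - F)) = -(1 - F) - (1 - F) := by
      rw [← h3]
      abel
    rw [h6, neg_smul, two_smul]
    abel
  have h6 : (F' * (1 - F)) = (1 + i) • (1 - F) := by
    have hne' : i - 1 ≠ 0 := by
      intro h
      rw [sub_eq_zero.1 h, one_mul] at hi
      apply h2
      linear_combination hi
    have h7 : (i - 1) • (F' * (1 - F)) = (i - 1) • ((1 + i) • (1 - F)) := by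
      rw [h5, smul_smul]
      congr 1
      linear_combination -hi
    exact smul_right_injective _ hne' h7
  have h7 : F' * (1 - F) = (1 + i) • (F' * (1 - F)) := by
    calc F' * (1 - F) = F' * F' * (1 - F) := by rw [hF']
      _ = F' * ((1 + i) • (1 - F)) := by rw [mul_assoc, h6]
      _ = _ := by rw [mul_smul_comm]
  have hi0 : i ≠ 0 := by
    rintro rfl
    rw [mul_zero] at hi
    exact one_ne_zero (neg_eq_zero.1 hi.symm)
  have h8 : i • (F' * (1 - F)) = 0 := by
    rw [add_smul, one_smul] at h7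
    exact left_eq_add.1 h7
  rcases smul_eq_zero.1 h8 with h9 | h9
  · exact hi0 h9
  · rw [h9] at h6
    rcases smul_eq_zero.1 h6.symm with h10 | h10
    · have h11 : i = -1 := by linear_combination h10
      rw [h11] at hi
      apply h2
      linear_combination hi
    · exact hF1 (sub_eq_zero.1 h10).symm

section P

variable {n : ℕ} {φ : Matrix (Fin n) (Fin n) K →ₗ[K] Module.End K V}

/-- `X ↦ 1 + φ (X - 1) + ad (φ (X⁻¹ - 1))` on `GL_n(K)` -/
def omg (hS : Star σ ad) (hm : ∀ X Y, φ (X * Y) = φ X * φ Y) (hp : ∀ X Y, φ X * ad (φ Y) = 0 ∧ ad (φ X) * φ Y = 0) :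
    (Matrix (Fin n) (Fin n) K)ˣ →* Module.End K V where
  toFun X := 1 + φ ((X : Matrix (Fin n) (Fin n) K) - 1) + ad (φ (((X⁻¹ : (Matrix (Fin n) (Fin n) K)ˣ) : Matrix (Fin n) (Fin n) K) - 1))
  map_one' := by
    rw [inv_one, Units.val_one, sub_self, map_zero, Star.zero hS, add_zero, add_zero]
  map_mul' X Y := by
    have h1 : ((X * Y : (Matrix (Fin n) (Fin n) K)ˣ) : Matrix (Fin n) (Fin n) K) - 1 =
        ((X : Matrix (Fin n) (Fin n) K) - 1) + ((Y : Matrix (Fin n) (Fin n) K) - 1) +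
          ((X : Matrix (Fin n) (Fin n) K) - 1) * ((Y : Matrix (Fin n) (Fin n) K) - 1) := by
      rw [Units.val_mul]
      noncomm_ring
    have h2 : (((X * Y)⁻¹ : (Matrix (Fin n) (Fin n) K)ˣ) : Matrix (Fin n) (Fin n) K) - 1 =
        (((X⁻¹ : (Matrix (Fin n) (Fin n) K)ˣ) : Matrix (Fin n) (Fin n) K) - 1) +
        (((Y⁻¹ : (Matrix (Fin n) (Fin n) K)ˣ) : Matrix (Fin n) (Fin n) K) - 1) +
          (((Y⁻¹ : (Matrix (Fin n) (Fin n) K)ˣ) : Matrix (Fin n) (Fin n) K) - 1) *
            (((X⁻¹ : (Matrix (Fin n) (Fin n) K)ˣ) : Matrix (Fin n) (Fin n) K) - 1) := by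
      rw [mul_inv_rev, Units.val_mul]
      noncomm_ring
    rw [h1, h2]
    set x := (X : Matrix (Fin n) (Fin n) K) - 1
    set y := (Y : Matrix (Fin n) (Fin n) K) - 1
    set x' := ((X⁻¹ : (Matrix (Fin n) (Fin n) K)ˣ) : Matrix (Fin n) (Fin n) K) - 1
    set y' := ((Y⁻¹ : (Matrix (Fin n) (Fin n) K)ˣ) : Matrix (Fin n) (Fin n) K) - 1
    rw [map_add, map_add, map_add, map_add, hm, hm, hS.add, hS.add, hS.mul]
    have e1 := (hp x y').1
    have e2 := (hp x' y).2
    calc 1 + (φ x + φ y + φ x * φ y) + (ad (φ x') + ad (φ y') + ad (φ x') * ad (φ y'))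
        = 1 + (φ x + φ y + φ x * φ y) + (ad (φ x') + ad (φ y') + ad (φ x') * ad (φ y')) + φ x * ad (φ y') + ad (φ x') * φ y := by
          rw [e1, e2, add_zero, add_zero]
      _ = _ := by noncomm_ring

theorem omg_apply (hS : Star σ ad) (hm : ∀ X Y, φ (X * Y) = φ X * φ Y) (hp : ∀ X Y, φ X * ad (φ Y) = 0 ∧ ad (φ X) * φ Y = 0)
    (X : (Matrix (Fin n) (Fin n) K)ˣ) : omg hS hm hp X = 1 + φ ((X : Matrix (Fin n) (Fin n) K) - 1) +
      ad (φ (((X⁻¹ : (Matrix (Fin n) (Fin n) K)ˣ) : Matrix (Fin n) (Fin n) K) - 1)) := rfl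

/-- `X ↦ 1 + φ (X - 1)` -/
def lamL (hm : ∀ X Y, φ (X * Y) = φ X * φ Y) : Matrix (Fin n) (Fin n) K →* Module.End K V where
  toFun X := 1 + φ (X - 1)
  map_one' := by rw [sub_self, map_zero, add_zero]
  map_mul' U W := by
    have h1 : U * W - 1 = (U - 1) + (W - 1) + (U - 1) * (W - 1) := by noncomm_ring
    rw [h1, map_add, map_add, hm]
    noncomm_ring

end P

/-- **The pair component is impossible.** -/
theorem pair_false [Finite G] [Finite K] {ι : Type} [Fintype ι] {m : ι → ℕ} {u : ι → Bool}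
    {φ : ∀ i, Matrix (Fin (m i)) (Fin (m i)) K →ₗ[K] Module.End K V} (h2 : (2 : K) ≠ 0)
    (Kt : Kit N0 A E z s x r ψ) (hL : Lin Gh π) (L : LKit Gh π N0 A E z s x r Nh Eh zh sh xh rh)
    (hS : Star σ ad) (hD : Dec σ ad Nh u φ)
    (hGh : ∀ g : V ≃ₗ[K] V, g ∈ Gh ↔ (cl g * ad (cl g) = 1 ∧ LinearMap.det (cl g) = 1))
    {q : ℕ} (hq : Nat.card K = q ^ 2) (hσ : ∀ c, σ c = c ^ q) (hdet : ∀ T, LinearMap.det (ad T) = σ (LinearMap.det T))
    (i : ι) (hF1 : FF ad u φ i ≠ 1) (hFE : ∀ e ∈ Eh, (cl e - 1) * FF ad u φ i = cl e - 1) (hu : u i = false)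
    (hE : ∀ e ∈ Eh, ∃ X : Matrix.SpecialLinearGroup (Fin (m i)) K,
      cl e = 1 + φ i ((X : Matrix (Fin (m i)) (Fin (m i)) K) - 1) +
        ad (φ i (((X⁻¹ : Matrix.SpecialLinearGroup (Fin (m i)) K) : Matrix (Fin (m i)) (Fin (m i)) K) - 1))) : False := by
  classical
  have hft := Fintype.ofFinite K
  have hodd : Odd (Nat.card K) := by
    rw [Nat.card_eq_fintype_card]
    have h3 : ringChar K ≠ 2 := by
      intro h
      have h4 : ((2 : ℕ) : K) = 0 := by rw [← h]; exact ringChar.Nat.cast_ringChar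
      exact h2 (by exact_mod_cast h4)
    rw [Nat.odd_iff]
    exact FiniteField.odd_card_of_char_ne_two h3
  have hm := hD.mul i
  have hp := hD.pair i hu
  have hFF : FF ad u φ i = φ i 1 + ad (φ i 1) := by
    unfold FF
    rw [if_neg (by rw [hu]; decide)]
  let θ : (Module.End K V)ˣ →* (V ≃ₗ[K] V) := (LinearMap.GeneralLinearGroup.generalLinearEquiv K V).toMonoidHom
  have hθ : ∀ w : (Module.End K V)ˣ, cl (θ w) = (w : Module.End K V) := fun w => LinearMap.ext fun v => rfl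
  let Ω : (Matrix (Fin (m i)) (Fin (m i)) K)ˣ →* (V ≃ₗ[K] V) := θ.comp (omg hS hm hp).toHomUnits
  have hΩ : ∀ X, cl (Ω X) = omg hS hm hp X := fun X => hθ _
  have hNG : ∀ g ∈ Nh, cl g * ad (cl g) = 1 := fun g hg => ((hGh g).1 (Nh_le L hg)).1
  -- `ad (φ X)` commutes with `Nh`
  have hadN : ∀ X, ∀ g ∈ Nh, ad (φ i X) * cl g = cl g * ad (φ i X) := by
    intro X g hg
    have h3 := hD.comm i X g⁻¹ (inv_mem hg)
    have h4 := congrArg ad h3
    rw [hS.mul, hS.mul] at h4
    have h5 : ad (cl g⁻¹) = cl g := by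
      rw [← ad_eq g (hNG g hg), hS.inv]
    change ad (cl g⁻¹) * ad (φ i X) = ad (φ i X) * ad (cl g⁻¹) at h4
    rw [h5] at h4
    exact h4.symm
  have hΩN : ∀ X, ∀ g ∈ Nh, Ω X * g = g * Ω X := by
    intro X g hg
    refine LinearEquiv.toLinearMap_injective ?_
    change cl (Ω X) * cl g = cl g * cl (Ω X)
    rw [hΩ, omg_apply, add_mul, add_mul, mul_add, mul_add, one_mul, mul_one, hadN _ g hg]
    rw [show φ i ((X : Matrix (Fin (m i)) (Fin (m i)) K) - 1) * cl g = cl g * φ i ((X : Matrix (Fin (m i)) (Fin (m i)) K) - 1) from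
      hD.comm i _ g hg]
  have hΩu : ∀ X, cl (Ω X) * ad (cl (Ω X)) = 1 := by
    intro X
    have h3 : ad (cl (Ω X)) = cl (Ω X⁻¹) := by
      rw [hΩ, hΩ, omg_apply, omg_apply, hS.add, hS.add, Star.one hS, hS.inv, inv_inv]
      abel
    rw [h3, map_inv, cl_mul_inv]
  let Λ : Matrix.SpecialLinearGroup (Fin (m i)) K →* (V ≃ₗ[K] V) := Ω.comp Matrix.SpecialLinearGroup.toGL
  have hΛG : commutator (Matrix.SpecialLinearGroup (Fin (m i)) K) = ⊤ → ∀ U, Λ U ∈ Gh := by
    intro hperf U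
    rw [hGh]
    refine ⟨hΩu _, ?_⟩
    let f : Matrix.SpecialLinearGroup (Fin (m i)) K →* K :=
      (LinearMap.det : Module.End K V →* K).comp ((omg hS hm hp).comp Matrix.SpecialLinearGroup.toGL)
    have h3 : f.toHomUnits U = 1 := by
      have h4 : commutator (Matrix.SpecialLinearGroup (Fin (m i)) K) ≤ f.toHomUnits.ker :=
        Abelianization.commutator_subset_ker f.toHomUnits
      rw [hperf] at h4
      exact h4 (mem_top U)
    have h5 := congrArg Units.val h3
    have h6 : cl (Λ U) = omg hS hm hp (Matrix.SpecialLinearGroup.toGL U) := hΩ _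
    rw [h6]
    exact h5
  obtain ⟨hn, hK9, -⟩ := two_nine' Kt hL L hodd Λ (fun U g hg => hΩN _ g hg)
    (fun e he => by
      obtain ⟨X, hX⟩ := hE e he
      refine ⟨X, LinearEquiv.toLinearMap_injective ?_⟩
      change cl (Ω _) = cl e
      rw [hΩ, omg_apply, hX]
      rfl) hΛG
  -- `q = 3`
  have hq3 : q = 3 := by
    rw [hK9] at hq
    have : q < 4 := by
      by_contra hcon
      push Not at hcon
      have := Nat.pow_le_pow_left hcon 2
      omega
    interval_cases q <;> omega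
  subst hq3
  have h3 : (3 : K) = 0 := by
    have h1 : ((9 : ℕ) : K) = 0 := by
      rw [← hK9, Nat.card_eq_fintype_card]
      exact FiniteField.cast_card_eq_zero K
    have h2 : (3 : K) * 3 = 0 := by
      rw [← h1]
      norm_num
    exact mul_self_eq_zero.1 h2
  obtain ⟨a, ha⟩ : ∃ a : K, a * a = -1 := by
    obtain ⟨ω, hω⟩ := IsCyclic.exists_generator (α := Kˣ)
    have ho : orderOf ω = 8 := by
      rw [orderOf_eq_card_of_forall_mem_zpowers hω, Nat.card_units, hK9]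
    refine ⟨((ω ^ 2 : Kˣ) : K), ?_⟩
    have h4 : ((ω ^ 4 : Kˣ) : K) * ((ω ^ 4 : Kˣ) : K) = 1 := by
      rw [← Units.val_mul, ← pow_add, show 4 + 4 = 8 by norm_num, ← ho, pow_orderOf_eq_one, Units.val_one]
    have h5 : ((ω ^ 4 : Kˣ) : K) ≠ 1 := by
      intro h
      have h6 : ω ^ 4 = 1 := Units.ext h
      have h7 := orderOf_dvd_of_pow_eq_one h6
      rw [ho] at h7
      norm_num at h7
    have h6 : ((ω ^ 2 : Kˣ) : K) * ((ω ^ 2 : Kˣ) : K) = ((ω ^ 4 : Kˣ) : K) := by
      rw [← Units.val_mul, ← pow_add]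
    rw [h6]
    exact (mul_self_eq_one_iff.1 h4).resolve_left h5
  have ha0 : a ≠ 0 := by
    rintro rfl
    rw [mul_zero] at ha
    exact one_ne_zero (neg_eq_zero.1 ha.symm)
  have hσa : σ a = -a := by
    rw [hσ, pow_succ, pow_two, ha]
    ring
  -- the element `τ`
  generalize hF : FF ad u φ i = F at *
  have hFsq : F * F = F := by rw [← hF]; exact dec_sq hD hS i
  have hFad : ad F = F := by rw [← hF]; exact dec_ad hD hS i
  have hmul : ∀ a b : K, (1 + (a - 1) • F) * (1 + (b - 1) • F) = 1 + (a * b - 1) • F := by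
    intro a b
    rw [add_mul, mul_add, mul_add, smul_mul_smul_comm, hFsq, one_mul, mul_one, one_mul]
    module
  have hinv : (1 + (a - 1) • F) * (1 + (-a - 1) • F) = 1 := by
    rw [hmul]
    have : a * -a - 1 = 0 := by linear_combination -ha
    rw [this, zero_smul, add_zero]
  have hinv' : (1 + (-a - 1) • F) * (1 + (a - 1) • F) = 1 := by
    rw [hmul]
    have : -a * a - 1 = 0 := by linear_combination -ha
    rw [this, zero_smul, add_zero]
  let w : (Module.End K V)ˣ := ⟨1 + (a - 1) • F, 1 + (-a - 1) • F, hinv, hinv'⟩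
  have hτ : cl (θ w) = 1 + (a - 1) • F := hθ w
  have hFN : ∀ g ∈ Nh, F * cl g = cl g * F := by
    intro g hg
    rw [← hF]
    exact dec_comm hD hS i g (hNG g hg) (hD.comm i 1 g hg)
  have hFEc : ∀ g ∈ Eh, F * cl g = cl g * F := by
    intro g hg
    rw [← hF]
    refine dec_comm hD hS i g ((hGh g).1 (L.Eh_le hg)).1 ?_
    obtain ⟨X, h4, h5⟩ := dec_phi hD hS (T := cl g) (fun k hk => by rw [← cl_mul, ← cl_mul, L.Eh_comm g hg k hk]) i
    rw [h4, h5]
  have hτu : cl (θ w) * ad (cl (θ w)) = 1 := by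
    have h4 : ad (cl (θ w)) = 1 + (-a - 1) • F := by
      rw [hτ, hS.add, Star.one hS, hS.smul, hFad, map_sub, map_one, hσa]
    rw [h4, hτ, hinv]
  have hτd : LinearMap.det (cl (θ w)) = 1 := by
    subst hF
    rw [hτ, hFF]
    -- the determinant on the first part
    let δ : Matrix (Fin (m i)) (Fin (m i)) K →* K := (LinearMap.det : Module.End K V →* K).comp (lamL hm)
    have hδ : ∀ X, δ X = LinearMap.det (1 + φ i (X - 1)) := fun X => rfl
    have hsc : ∀ c : K, 1 + (c - 1) • φ i 1 = 1 + φ i (c • (1 : Matrix (Fin (m i)) (Fin (m i)) K) - 1) := by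
      intro c
      rw [map_sub, map_smul, sub_smul, one_smul]
    have e1 : 1 + (a - 1) • (φ i 1 + ad (φ i 1)) = (1 + (a - 1) • φ i 1) * (1 + (a - 1) • ad (φ i 1)) := by
      have e3 : (a - 1) • φ i 1 * (a - 1) • ad (φ i 1) = 0 := by
        rw [smul_mul_smul_comm, (hp 1 1).1, smul_zero]
      have e4 : ∀ x y : Module.End K V, x * y = 0 → (1 + x) * (1 + y) = 1 + (x + y) := by
        intro x y hxy
        calc (1 + x) * (1 + y) = 1 + (x + y) + x * y := by noncomm_ring
          _ = _ := by rw [hxy, add_zero]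
      rw [e4 _ _ e3, smul_add]
    have e2 : 1 + (a - 1) • ad (φ i 1) = ad (1 + (-a - 1) • φ i 1) := by
      have e5 : σ (-a - 1) = a - 1 := by rw [map_sub, map_neg, map_one, hσa, neg_neg]
      rw [hS.add, Star.one hS, hS.smul, e5]
    rw [e1, map_mul, e2, hdet, hsc, hsc, ← hδ, ← hδ]
    -- `δ (a • 1) = ± 1`
    have hinvδ : δ (a • 1) * δ ((-a) • 1) = 1 := by
      rw [← map_mul, smul_mul_smul_comm, mul_one]
      have : a * -a = 1 := by linear_combination -ha
      rw [this, one_smul, map_one]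
    have hsqδ : δ (a • 1) * δ (a • 1) = 1 := by
      -- `m i = 2`: `a • 1` is a product of two conjugate elements
      have hpow : ∀ (n : ℕ) (_ : n = 2) (δ : Matrix (Fin n) (Fin n) K →* K), δ (a • 1) * δ (a • 1) = 1 := by
        intro n hn δ
        subst hn
        have h4 : (a • 1 : Matrix (Fin 2) (Fin 2) K) = !![0, 1; -1, 0] * !![a, 0; 0, 1] * !![0, -1; 1, 0] * !![a, 0; 0, 1] := by
          ext b c
          fin_cases b <;> fin_cases c <;> simp [Matrix.mul_apply, Fin.sum_univ_two]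
        have h5 : δ !![0, 1; -1, 0] * δ !![0, -1; 1, 0] = 1 := by
          rw [← map_mul]
          have : (!![0, 1; -1, 0] : Matrix (Fin 2) (Fin 2) K) * !![0, -1; 1, 0] = 1 := by
            ext a b
            fin_cases a <;> fin_cases b <;> simp [Matrix.mul_apply, Fin.sum_univ_two]
          rw [this, map_one]
        have h6 : δ !![a, 0; 0, 1] * δ !![a, 0; 0, 1] * (δ !![a, 0; 0, 1] * δ !![a, 0; 0, 1]) = 1 := by
          rw [← map_mul, ← map_mul]
          have : (!![a, 0; 0, 1] : Matrix (Fin 2) (Fin 2) K) * !![a, 0; 0, 1] * (!![a, 0; 0, 1] * !![a, 0; 0, 1]) = 1 := by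
            ext b c
            fin_cases b <;> fin_cases c <;> simp [Matrix.mul_apply, Fin.sum_univ_two, ha]
          rw [this, map_one]
        have h7 : δ (a • 1) = δ !![a, 0; 0, 1] * δ !![a, 0; 0, 1] := by
          rw [h4, map_mul, map_mul, map_mul]
          calc _ = (δ !![0, 1; -1, 0] * δ !![0, -1; 1, 0]) * (δ !![a, 0; 0, 1] * δ !![a, 0; 0, 1]) := by ring
            _ = _ := by rw [h5, one_mul]
        rw [h7]
        exact h6
      exact hpow _ hn δ
    have h4 : δ ((-a) • 1) = δ (a • 1) := by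
      have h5 : δ (a • 1) ≠ 0 := by
        intro h0
        rw [h0, zero_mul] at hsqδ
        exact zero_ne_one hsqδ
      exact mul_left_cancel₀ h5 (hinvδ.trans hsqδ.symm)
    rw [h4]
    rcases mul_self_eq_one_iff.1 hsqδ with h5 | h5
    · rw [h5, map_one, one_mul]
    · rw [h5, map_neg, map_one]
      norm_num
  have hτG : θ w ∈ Gh := (hGh _).2 ⟨hτu, hτd⟩
  refine tau_false Kt hL L h2 hFsq hF1 hFE ha hτ hτG ?_ ?_
  · intro g hg
    refine LinearEquiv.toLinearMap_injective ?_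
    change cl (θ w) * cl g = cl g * cl (θ w)
    rw [hτ, add_mul, mul_add, one_mul, mul_one, smul_mul_assoc, mul_smul_comm, hFN g hg]
  · intro g hg
    refine LinearEquiv.toLinearMap_injective ?_
    change cl (θ w) * cl g = cl g * cl (θ w)
    rw [hτ, add_mul, mul_add, one_mul, mul_one, smul_mul_assoc, mul_smul_comm, hFEc g hg]

end Cfsg.Agent.H375.C3
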